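import Groth.Agent.Comod33.Connected
import Groth.Agent.FBase64.TensorField
import Mathlib.RingTheory.Ideal.Height
import Mathlib.RingTheory.Ideal.KrullsHeightTheorem
import Mathlib.GroupTheory.Finiteness

/-!
The largest irreducible piece of the closures of finitely generated subgroups of the points of an
affine algebraic group, and its torsion quotient.
-/

universe u

open TensorProduct WithConv
open Groth.Agent.Comod33.Conn

noncomputable section

namespace Groth.Agent.DenseFG4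

variable {k : Type u} [Field k] [IsAlgClosed k]

theorem eq_zero_of_forall_algHom {C : Type u} [CommRing C] [Algebra k C] [Algebra.FiniteType k C]
    [IsReduced C] {c : C} (h : ∀ f : C →ₐ[k] k, f c = 0) : c = 0 := by
  haveI : IsJacobsonRing C := isJacobsonRing_of_finiteType (A := k)
  have h1 : c ∈ Ideal.jacobson (⊥ : Ideal C) := by
    rw [Ideal.jacobson, Ideal.mem_sInf]
    rintro J ⟨-, hJ⟩
    obtain ⟨γ, hγ⟩ := FBase64.exists_algHom_ker_eq k C J
    exact (hγ c).1 (h γ)
  rwa [IsJacobsonRing.out' (⊥ : Ideal C) (Ideal.isRadical_bot_iff.2 inferInstance), Ideal.mem_bot] at h1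

variable {A : Type u} [CommRing A] [HopfAlgebra k A] [Algebra.FiniteType k A]

/-- the ideal of functions vanishing on a set of points -/
def vI (S : Set (Pt k A)) : Ideal A := ⨅ g ∈ S, RingHom.ker g.ofConv

omit [IsAlgClosed k] [Algebra.FiniteType k A] in
theorem mem_vI {S : Set (Pt k A)} {a : A} : a ∈ vI S ↔ ∀ g ∈ S, g.ofConv a = 0 := by
  simp [vI, RingHom.mem_ker]

omit [IsAlgClosed k] [Algebra.FiniteType k A] in
theorem vI_anti {S T : Set (Pt k A)} (h : S ⊆ T) : vI T ≤ vI S := fun _ ha =>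
  mem_vI.2 fun g hg => mem_vI.1 ha g (h hg)

/-- the points killing an ideal -/
def vset (J : Ideal A) : Set (Pt k A) := {g | ∀ a ∈ J, g.ofConv a = 0}

omit [IsAlgClosed k] [Algebra.FiniteType k A] in
theorem vset_anti {I J : Ideal A} (h : I ≤ J) : (vset J : Set (Pt k A)) ⊆ vset I :=
  fun _ hg a ha => hg a (h ha)

omit [IsAlgClosed k] [Algebra.FiniteType k A] in
theorem push_apply' (x : Pt k A) (w : GA k A) (a : A) :
    x.ofConv (w.ofConv a) = (push x w).ofConv a := rfl

/-- a prime is the ideal of its points -/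
theorem mem_of_forall_vset {p : Ideal A} [p.IsPrime] {a : A}
    (h : ∀ g : Pt k A, g ∈ vset p → g.ofConv a = 0) : a ∈ p := by
  rw [← Ideal.Quotient.eq_zero_iff_mem]
  refine eq_zero_of_forall_algHom (k := k) fun f => h (toConv (f.comp (Ideal.Quotient.mkₐ k p))) ?_
  intro b hb
  show f (Ideal.Quotient.mk p b) = 0
  rw [Ideal.Quotient.eq_zero_iff_mem.2 hb, map_zero]

omit [IsAlgClosed k] [Algebra.FiniteType k A] in
theorem closure_mul (Φ : Subgroup (Pt k A)) {x y : Pt k A} (hx : x ∈ vset (vI (Φ : Set (Pt k A))))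
    (hy : y ∈ vset (vI (Φ : Set (Pt k A)))) : x * y ∈ vset (vI (Φ : Set (Pt k A))) := by
  have h1 : ∀ g ∈ Φ, ∀ a ∈ vI (Φ : Set (Pt k A)), (g * y).ofConv a = 0 := by
    intro g hg a ha
    have hw : (const g * gen k A).ofConv a ∈ vI (Φ : Set (Pt k A)) := mem_vI.2 fun h hh => by
      rw [push_apply', map_mul, push_const, push_gen]
      exact mem_vI.1 ha _ (Φ.mul_mem hg hh)
    have := hy _ hw
    rwa [push_apply', map_mul, push_const, push_gen] at this
  intro a ha
  have hw : (gen k A * const y).ofConv a ∈ vI (Φ : Set (Pt k A)) := mem_vI.2 fun h hh => by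
    rw [push_apply', map_mul, push_const, push_gen]
    exact h1 h hh a ha
  have := hx _ hw
  rwa [push_apply', map_mul, push_const, push_gen] at this

omit [IsAlgClosed k] [Algebra.FiniteType k A] in
theorem closure_inv (Φ : Subgroup (Pt k A)) {x : Pt k A} (hx : x ∈ vset (vI (Φ : Set (Pt k A)))) :
    x⁻¹ ∈ vset (vI (Φ : Set (Pt k A))) := by
  intro a ha
  have hw : ((gen k A)⁻¹).ofConv a ∈ vI (Φ : Set (Pt k A)) := mem_vI.2 fun h hh => by
    rw [push_apply', map_inv, push_gen]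
    exact mem_vI.1 ha _ (Φ.inv_mem hh)
  have := hx _ hw
  rwa [push_apply', map_inv, push_gen] at this

omit [IsAlgClosed k] [Algebra.FiniteType k A] in
theorem subset_closure (Φ : Set (Pt k A)) {g : Pt k A} (hg : g ∈ Φ) : g ∈ vset (vI Φ) :=
  fun _ ha => mem_vI.1 ha g hg

/-- a prime occurring, through the unit, in the closure of a finitely generated subgroup -/
structure Occ (p : Ideal A) : Prop where
  prime : p.IsPrime
  one_mem : (1 : Pt k A) ∈ (vset p : Set (Pt k A))
  le : ∃ Φ : Subgroup (Pt k A), Φ.FG ∧ vI (Φ : Set (Pt k A)) ≤ p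

theorem occ_ker : Occ (k := k) (RingHom.ker ((1 : Pt k A).ofConv)) :=
  ⟨RingHom.ker_isPrime _, fun _ ha => ha, ⊥, ⟨∅, by simp⟩, fun a ha =>
    mem_vI.1 ha 1 (one_mem _)⟩

/-- pulling back an occurring prime along a regular word -/
theorem occ_comap {p : Ideal A} [p.IsPrime] (w : GA k A) (Φ : Subgroup (Pt k A)) (hΦ : Φ.FG)
    (hw : ∀ x ∈ (vset p : Set (Pt k A)), push x w ∈ vset (vI (Φ : Set (Pt k A))))
    {x₁ : Pt k A} (hx₁ : x₁ ∈ (vset p : Set (Pt k A))) (h1 : push x₁ w = 1) :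
    Occ (k := k) (p.comap w.ofConv) := by
  refine ⟨inferInstance, fun a ha => ?_, Φ, hΦ, fun a ha => ?_⟩
  · rw [← h1, ← push_apply']
    exact hx₁ _ ha
  · show w.ofConv a ∈ p
    exact mem_of_forall_vset fun x hx => by rw [push_apply']; exact hw x hx a ha

theorem push_mem_vset {p : Ideal A} (w : GA k A) {x : Pt k A} (hx : x ∈ (vset p : Set (Pt k A))) :
    push x w ∈ (vset (p.comap w.ofConv) : Set (Pt k A)) :=
  fun a ha => by rw [← push_apply']; exact hx _ ha

/-- the product of two occurring primes -/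
theorem occ_prod {p q : Ideal A} (hp : Occ (k := k) p) (hq : Occ (k := k) q) :
    ∃ r : Ideal A, Occ (k := k) r ∧ r ≤ p ∧ r ≤ q ∧
      ∀ x ∈ (vset p : Set (Pt k A)), ∀ y ∈ (vset q : Set (Pt k A)), x * y ∈ vset r := by
  haveI := hp.prime
  haveI := hq.prime
  haveI := FBase64.isDomain_tensor_of_isAlgClosed k (A ⧸ p) (A ⧸ q)
  haveI hfp : Algebra.FiniteType k (A ⧸ p) :=
    Algebra.FiniteType.of_surjective (Ideal.Quotient.mkₐ k p) Ideal.Quotient.mk_surjective
  haveI hfq : Algebra.FiniteType k (A ⧸ q) :=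
    Algebra.FiniteType.of_surjective (Ideal.Quotient.mkₐ k q) Ideal.Quotient.mk_surjective
  haveI : Algebra.FiniteType (A ⧸ p) ((A ⧸ p) ⊗[k] (A ⧸ q)) := inferInstance
  haveI : Algebra.FiniteType k ((A ⧸ p) ⊗[k] (A ⧸ q)) := Algebra.FiniteType.trans hfp ‹_›
  let il : A →ₐ[k] (A ⧸ p) ⊗[k] (A ⧸ q) :=
    Algebra.TensorProduct.includeLeft.comp (Ideal.Quotient.mkₐ k p)
  let ir : A →ₐ[k] (A ⧸ p) ⊗[k] (A ⧸ q) :=
    Algebra.TensorProduct.includeRight.comp (Ideal.Quotient.mkₐ k q)
  let μ : A →ₐ[k] (A ⧸ p) ⊗[k] (A ⧸ q) := (toConv il * toConv ir).ofConv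
  have hμ : ∀ f : (A ⧸ p) ⊗[k] (A ⧸ q) →ₐ[k] k, ∀ a,
      f (μ a) = (toConv (f.comp il) * toConv (f.comp ir) : Pt k A).ofConv a := by
    intro f a
    exact DFunLike.congr_fun (AlgHom.comp_convMul_distrib f (toConv il) (toConv ir)) a
  have hpair : ∀ x ∈ (vset p : Set (Pt k A)), ∀ y ∈ (vset q : Set (Pt k A)), ∀ a,
      a ∈ RingHom.ker μ → (x * y).ofConv a = 0 := by
    intro x hx y hy a ha
    let f : (A ⧸ p) ⊗[k] (A ⧸ q) →ₐ[k] k :=
      Algebra.TensorProduct.lift (Ideal.Quotient.liftₐ p x.ofConv hx)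
        (Ideal.Quotient.liftₐ q y.ofConv hy) fun _ _ => .all _ _
    have hl : f.comp il = x.ofConv := AlgHom.ext fun b => by simp [f, il]
    have hr : f.comp ir = y.ofConv := AlgHom.ext fun b => by simp [f, ir]
    have := hμ f a
    rw [hl, hr, RingHom.mem_ker.1 ha, map_zero] at this
    exact this.symm
  obtain ⟨Φp, hΦp, hlep⟩ := hp.le
  obtain ⟨Φq, hΦq, hleq⟩ := hq.le
  refine ⟨RingHom.ker μ, ⟨RingHom.ker_isPrime _, fun a ha => ?_, Φp ⊔ Φq, hΦp.sup hΦq,
    fun a ha => ?_⟩, fun a ha => ?_, fun a ha => ?_, fun x hx y hy a ha => hpair x hx y hy a ha⟩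
  · rw [← mul_one (1 : Pt k A)]; exact hpair _ hp.one_mem _ hq.one_mem a ha
  · rw [RingHom.mem_ker]
    refine eq_zero_of_forall_algHom (k := k) fun f => ?_
    rw [hμ f a]
    refine closure_mul (Φp ⊔ Φq) ?_ ?_ a ha
    · intro b hb
      have : b ∈ p := hlep (vI_anti (SetLike.coe_subset_coe.2 le_sup_left) hb)
      simp [il, Ideal.Quotient.eq_zero_iff_mem.2 this]
    · intro b hb
      have : b ∈ q := hleq (vI_anti (SetLike.coe_subset_coe.2 le_sup_right) hb)
      simp [ir, Ideal.Quotient.eq_zero_iff_mem.2 this]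
  · exact mem_of_forall_vset fun x hx => by
      rw [← mul_one x]; exact hpair _ hx _ hq.one_mem a ha
  · exact mem_of_forall_vset fun y hy => by
      rw [← one_mul y]; exact hpair _ hp.one_mem _ hy a ha

/-- The identity component of the largest closures: an irreducible normal subgroup of the points
inside the closure of a finitely generated subgroup, with torsion quotient. -/
theorem exists_core : ∃ p : Ideal A, p.IsPrime ∧ (1 : Pt k A) ∈ (vset p : Set (Pt k A)) ∧
    (∀ x ∈ (vset p : Set (Pt k A)), ∀ y ∈ (vset p : Set (Pt k A)), x * y ∈ vset p) ∧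
    (∀ g : Pt k A, ∀ x ∈ (vset p : Set (Pt k A)), g * x * g⁻¹ ∈ vset p) ∧
    (∀ g : Pt k A, ∃ m : ℕ, 0 < m ∧ g ^ m ∈ vset p) ∧
    ∃ Φ : Subgroup (Pt k A), Φ.FG ∧ (vset p : Set (Pt k A)) ⊆ vset (vI (Φ : Set (Pt k A))) := by
  haveI : IsNoetherianRing A := Algebra.FiniteType.isNoetherianRing k A
  obtain ⟨p, hp : Occ (k := k) p, hmin⟩ :=
    (InvImage.wf (fun p : Ideal A => p.height) wellFounded_lt).has_min
      {p | Occ (k := k) p} ⟨_, occ_ker⟩
  haveI := hp.prime
  -- the least one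
  have hleast : ∀ q, Occ (k := k) q → p ≤ q := by
    intro q hq
    obtain ⟨r, hr, hrp, hrq, -⟩ := occ_prod hp hq
    rcases hrp.lt_or_eq with hlt | rfl
    · haveI := hr.prime
      exact absurd (Ideal.height_strict_mono_of_isPrime_of_isPrime hlt) (hmin r hr)
    · exact hrq
  obtain ⟨Φ₀, hΦ₀, hle₀⟩ := hp.le
  have hsub : (vset p : Set (Pt k A)) ⊆ vset (vI (Φ₀ : Set (Pt k A))) := vset_anti hle₀
  refine ⟨p, hp.prime, hp.one_mem, fun x hx y hy => ?_, fun g x hx => ?_, fun g => ?_,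
    Φ₀, hΦ₀, hsub⟩
  · obtain ⟨r, hr, -, -, hmul⟩ := occ_prod hp hp
    exact vset_anti (hleast r hr) (hmul x hx y hy)
  · let w : GA k A := const g * gen k A * const g⁻¹
    have hpush : ∀ z : Pt k A, push z w = g * z * g⁻¹ := fun z => by
      simp only [w, map_mul, push_const, push_gen]
    have hocc : Occ (k := k) (p.comap w.ofConv) := by
      let Ψ := Φ₀ ⊔ Subgroup.zpowers g
      refine occ_comap w Ψ (hΦ₀.sup ⟨{g}, by rw [Finset.coe_singleton, Subgroup.zpowers_eq_closure]⟩) (fun z hz => ?_) hp.one_mem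
        (by rw [hpush]; group)
      rw [hpush]
      have hg : g ∈ Ψ := (le_sup_right : Subgroup.zpowers g ≤ Ψ) (Subgroup.mem_zpowers g)
      exact closure_mul _ (closure_mul _ (subset_closure _ hg)
        (vset_anti (vI_anti (SetLike.coe_subset_coe.2 le_sup_left)) (hsub hz)))
        (subset_closure _ (inv_mem hg))
    have := vset_anti (hleast _ hocc) (push_mem_vset w hx)
    rwa [hpush] at this
  · let Ψ := Φ₀ ⊔ Subgroup.zpowers g
    have hgm : ∀ j : ℕ, g ^ j ∈ Ψ := fun j =>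
      pow_mem ((le_sup_right : Subgroup.zpowers g ≤ Ψ) (Subgroup.mem_zpowers g)) j
    have hex : ∀ j : ℕ, ∃ q : (vI (Ψ : Set (Pt k A))).minimalPrimes,
        (q : Ideal A) ≤ RingHom.ker ((g ^ j).ofConv) := by
      intro j
      haveI : (RingHom.ker ((g ^ j).ofConv)).IsPrime := RingHom.ker_isPrime _
      obtain ⟨q, hq, hqle⟩ := Ideal.exists_minimalPrimes_le
        (show vI (Ψ : Set (Pt k A)) ≤ RingHom.ker ((g ^ j).ofConv) from
          fun a ha => mem_vI.1 ha _ (hgm j))
      exact ⟨⟨q, hq⟩, hqle⟩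
    choose q hq using hex
    haveI : Finite (vI (Ψ : Set (Pt k A))).minimalPrimes :=
      (Ideal.finite_minimalPrimes_of_isNoetherianRing A _).to_subtype
    obtain ⟨i, j, hij, hqij⟩ := Finite.exists_ne_map_eq_of_infinite q
    wlog hlt : i < j generalizing i j
    · exact this j i hij.symm hqij.symm (lt_of_le_of_ne (not_lt.1 hlt) hij.symm)
    haveI : (q i : Ideal A).IsPrime := (q i).2.1.1
    let w : GA k A := const (g ^ i)⁻¹ * gen k A
    have hpush : ∀ z : Pt k A, push z w = (g ^ i)⁻¹ * z := fun z => by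
      simp only [w, map_mul, push_const, push_gen]
    have hocc : Occ (k := k) ((q i : Ideal A).comap w.ofConv) := by
      refine occ_comap w Ψ (hΦ₀.sup ⟨{g}, by rw [Finset.coe_singleton, Subgroup.zpowers_eq_closure]⟩) (fun z hz => ?_)
        (x₁ := g ^ i) (fun a ha => hq i ha) (by rw [hpush, inv_mul_cancel])
      rw [hpush]
      exact closure_mul _ (closure_inv _ (subset_closure _ (hgm i)))
        (vset_anti (q i).2.1.2 hz)
    refine ⟨j - i, Nat.sub_pos_of_lt hlt, ?_⟩
    have hj : (g ^ j) ∈ (vset (q i : Ideal A) : Set (Pt k A)) := fun a ha => hq j (hqij ▸ ha)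
    have := vset_anti (hleast _ hocc) (push_mem_vset w hj)
    rwa [hpush, show (g ^ i)⁻¹ * g ^ j = g ^ (j - i) by
      rw [inv_mul_eq_iff_eq_mul, ← pow_add, Nat.add_sub_cancel' hlt.le]] at this

end Groth.Agent.DenseFG4
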