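import Mathlib.FieldTheory.AlgebraicClosure
import Mathlib.LinearAlgebra.Matrix.Charpoly.Eigs
import Mathlib.LinearAlgebra.Matrix.ToLinearEquiv
import Mathlib.RingTheory.Nilpotent.Basic
import Mathlib.Analysis.Complex.Polynomial.Basic
import Mathlib.Analysis.Complex.Norm
import Mathlib.RingTheory.IntegralClosure.IsIntegralClosure.Basic

/-!
Traces of matrices of finite order in characteristic zero: they are never large integers, and the
trace equals the size only for the identity.
-/

noncomputable section

namespace Groth.Agent.DenseFG4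

variable {k : Type*} [Field k] [IsAlgClosed k] [CharZero k]
variable {n : Type*} [Fintype n] [DecidableEq n]

omit [CharZero k] in
theorem pow_eq_one_of_mem_roots {M : Matrix n n k} {m : ℕ} (hM : M ^ m = 1) {l : k}
    (hl : l ∈ M.charpoly.roots) : l ^ m = 1 := by
  have h0 : (Matrix.scalar n l - M).det = 0 := by
    rw [← Matrix.eval_charpoly]
    exact (Polynomial.mem_roots'.1 hl).2
  obtain ⟨v, hv0, hv⟩ := Matrix.exists_mulVec_eq_zero_iff.2 h0
  have hMv : M.mulVec v = l • v := by
    rw [Matrix.sub_mulVec, sub_eq_zero] at hv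
    rw [← hv]; ext i; simp [Matrix.scalar_apply, Matrix.mulVec_diagonal]
  have hp : ∀ j : ℕ, (M ^ j).mulVec v = l ^ j • v := by
    intro j
    induction j with
    | zero => simp
    | succ j ih => rw [pow_succ, ← Matrix.mulVec_mulVec, hMv, Matrix.mulVec_smul, ih, smul_smul, pow_succ']
  have h := hp m
  rw [hM, Matrix.one_mulVec] at h
  obtain ⟨i, hi⟩ := Function.ne_iff.1 hv0
  have := congrFun h i
  simp only [Pi.smul_apply, smul_eq_mul] at this
  exact (mul_eq_right₀ hi).1 this.symm

/-- An integer-valued sum of roots of unity is at most their number, with equality only for ones. -/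
theorem le_card_of_sum_eq (s : Multiset k) {m : ℕ} (hm : 0 < m) (hs : ∀ x ∈ s, x ^ m = 1)
    {N : ℕ} (h : s.sum = (N : k)) :
    N ≤ Multiset.card s ∧ (N = Multiset.card s → ∀ x ∈ s, x = 1) := by
  let L := algebraicClosure ℚ k
  have hint : ∀ x ∈ s, x ∈ L := fun x hx =>
    mem_algebraicClosure_iff.2 (IsIntegral.of_pow hm (by rw [hs x hx]; exact isIntegral_one)).isAlgebraic
  haveI : Algebra.IsAlgebraic ℚ L := by
    refine ⟨fun x => ?_⟩
    have hx : IsAlgebraic ℚ (x : k) := mem_algebraicClosure_iff.1 x.2
    obtain ⟨p, hp0, hp⟩ := hx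
    refine ⟨p, hp0, ?_⟩
    apply Subtype.val_injective
    rw [Polynomial.aeval_def] at hp ⊢
    refine Eq.trans (Polynomial.hom_eval₂ p _ (algebraMap L k) x) ?_
    rw [Subsingleton.elim ((algebraMap L k).comp _) (algebraMap ℚ k)]
    exact hp
  let σ : L →ₐ[ℚ] ℂ := IsAlgClosed.lift
  let t : Multiset L := s.attach.map fun x => ⟨x.1, hint x.1 x.2⟩
  have htmap : t.map (fun x : L => (x : k)) = s := by
    rw [Multiset.map_map]; exact s.attach_map_val
  have hsum : t.sum = (N : L) := by
    apply Subtype.val_injective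
    have : ((t.sum : L) : k) = s.sum := by
      conv_rhs => rw [← htmap]
      exact map_multiset_sum L.val t
    rw [this, h]; exact (map_natCast L.val N).symm
  have hcard : Multiset.card t = Multiset.card s := by simp [t]
  have hpow : ∀ x ∈ t, (σ x) ^ m = 1 := fun x hx => by
    rw [← map_pow, ← map_one σ]; congr 1
    apply Subtype.val_injective
    exact (by simpa using hs _ (htmap ▸ Multiset.mem_map_of_mem _ hx) : (x : k) ^ m = 1)
  have hnorm : ∀ x ∈ t, ‖σ x‖ = 1 := fun x hx =>
    Complex.norm_eq_one_of_pow_eq_one (hpow x hx) hm.ne'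
  have hre : ((t.map fun x => (σ x).re)).sum = (N : ℝ) := by
    have : (t.map fun x => σ x).sum = (N : ℂ) := by
      rw [← map_multiset_sum, hsum, map_natCast]
    have h2 := congrArg Complex.reAddGroupHom this
    rw [map_multiset_sum, Multiset.map_map] at h2
    simpa using h2
  have hle1 : ∀ x ∈ t, (σ x).re ≤ 1 := fun x hx => (Complex.re_le_norm _).trans (hnorm x hx).le
  have hdef : (t.map fun x => 1 - (σ x).re).sum = (Multiset.card s : ℝ) - N := by
    rw [Multiset.sum_map_sub, hre, Multiset.map_const', Multiset.sum_replicate, hcard]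
    simp
  have hnn : ∀ r ∈ t.map (fun x => 1 - (σ x).re), 0 ≤ r := fun r hr => by
    obtain ⟨x, hx, rfl⟩ := Multiset.mem_map.1 hr
    linarith [hle1 x hx]
  refine ⟨?_, fun hN x hx => ?_⟩
  · have := Multiset.sum_nonneg hnn
    rw [hdef] at this
    exact_mod_cast (by linarith : (N : ℝ) ≤ Multiset.card s)
  · rw [hN, sub_self] at hdef
    obtain ⟨y, hy, rfl⟩ := Multiset.mem_map.1 (show x ∈ t.map (fun x : L => (x : k)) by rwa [htmap])
    have h0 : 1 - (σ y).re = 0 := (le_antisymm
      ((Multiset.single_le_sum hnn _ (Multiset.mem_map_of_mem _ hy)).trans hdef.le)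
      (hnn _ (Multiset.mem_map_of_mem _ hy)))
    have hσ : σ y = 1 := by
      have hn := hnorm y hy
      have hr : (σ y).re = 1 := by linarith
      have hsq : Complex.normSq (σ y) = 1 := by rw [Complex.normSq_eq_norm_sq, hn, one_pow]
      rw [Complex.normSq_apply, hr] at hsq
      apply Complex.ext
      · simp [hr]
      · simpa using mul_self_eq_zero.1 (by linarith : (σ y).im * (σ y).im = 0)
    rw [← map_one σ] at hσ
    rw [σ.toRingHom.injective hσ]; rfl

/-- The trace of a matrix of finite order is not a natural number bigger than the size. -/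
theorem trace_ne_natCast_of_pow_eq_one {M : Matrix n n k} {m : ℕ} (hm : 0 < m) (hM : M ^ m = 1)
    {N : ℕ} (hN : Fintype.card n < N) : M.trace ≠ (N : k) := by
  intro h
  rw [Matrix.trace_eq_sum_roots_charpoly] at h
  have h1 := (le_card_of_sum_eq _ hm (fun x hx => pow_eq_one_of_mem_roots hM hx) h).1
  have h2 := M.charpoly.card_roots'
  rw [Matrix.charpoly_natDegree_eq_dim] at h2
  omega

/-- A matrix of finite order whose trace is the size is the identity. -/
theorem eq_one_of_pow_eq_one_of_trace {M : Matrix n n k} {m : ℕ} (hm : 0 < m) (hM : M ^ m = 1)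
    (h : M.trace = (Fintype.card n : k)) : M = 1 := by
  rw [Matrix.trace_eq_sum_roots_charpoly] at h
  have hc : Multiset.card M.charpoly.roots = Fintype.card n := by
    rw [IsAlgClosed.card_roots_eq_natDegree, Matrix.charpoly_natDegree_eq_dim]
  have hr := (le_card_of_sum_eq _ hm (fun x hx => pow_eq_one_of_mem_roots hM hx) h).2 hc.symm
  have hchar : M.charpoly = (Polynomial.X - Polynomial.C 1) ^ Fintype.card n := by
    conv_lhs => rw [(IsAlgClosed.splits M.charpoly).eq_prod_roots_of_monic M.charpoly_monic]
    rw [Multiset.eq_replicate_of_mem hr, hc, Multiset.map_replicate, Multiset.prod_replicate]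
  have hnil : IsNilpotent (M - 1) := ⟨Fintype.card n, by
    have := M.aeval_self_charpoly
    rw [hchar] at this
    simpa using this⟩
  have hgeom : (M - 1) * (∑ i ∈ Finset.range m, M ^ i) = 0 := by
    rw [mul_geom_sum, hM, sub_self]
  have hunit : IsUnit (∑ i ∈ Finset.range m, M ^ i) := by
    have hn2 : IsNilpotent (∑ i ∈ Finset.range m, (M ^ i - 1)) := by
      have he : (∑ i ∈ Finset.range m, (M ^ i - 1)) =
          (M - 1) * ∑ i ∈ Finset.range m, ∑ j ∈ Finset.range i, M ^ j := by
        rw [Finset.mul_sum]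
        exact Finset.sum_congr rfl fun i _ => (mul_geom_sum M i).symm
      rw [he]
      refine Commute.isNilpotent_mul_right ?_ hnil
      exact Commute.sum_right _ _ _ fun i _ => Commute.sum_right _ _ _ fun j _ =>
        (Commute.sub_left (Commute.self_pow M j) (Commute.one_left _))
    have e : (∑ i ∈ Finset.range m, M ^ i) =
        (m : Matrix n n k) + ∑ i ∈ Finset.range m, (M ^ i - 1) := by
      simp [Finset.sum_sub_distrib]
    rw [e]
    refine IsNilpotent.isUnit_add_left_of_commute hn2 ?_ (Nat.cast_commute _ _).symm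
    rw [← map_natCast (algebraMap k (Matrix n n k))]
    exact (isUnit_iff_ne_zero.2 (Nat.cast_ne_zero.2 hm.ne')).map _
  exact sub_eq_zero.1 (hunit.mul_left_eq_zero.1 hgeom)

end Groth.Agent.DenseFG4
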