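import Groth.Agent.DenseFG4.Core
import Groth.Agent.DenseFG4.TorsTrace
import Groth.Agent.Comod33.Chevalley
import Groth.Agent.Comod33.Faithful
import Mathlib.RingTheory.Spectrum.Prime.Chevalley
import Mathlib.RingTheory.Flat.TorsionFree
import Mathlib.RingTheory.Ideal.GoingDown

/-!
A representation with prescribed normal kernel, and finiteness of a torsion quotient of the points of
an affine algebraic group in characteristic zero.
-/

universe u

open TensorProduct WithConv Matrix
open Groth.Agent.Comod33 Groth.Agent.Comod33.Conn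

noncomputable section

namespace Groth.Agent.DenseFG4

variable {k : Type u} [Field k]

section Value

/-- A non-constant regular function on an irreducible affine variety takes all large integer values
but finitely many. -/
theorem exists_large_value [IsAlgClosed k] [CharZero k] {D : Type u} [CommRing D] [IsDomain D]
    [Algebra k D] [Algebra.FiniteType k D] (f : D) (hf : ∀ c : k, f ≠ algebraMap k D c) (N : ℕ) :
    ∃ m : ℕ, N < m ∧ ∃ x : D →ₐ[k] k, x f = (m : k) := by
  classical
  let φ : Polynomial k →ₐ[k] D := Polynomial.aeval f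
  have hinj : Function.Injective φ := by
    rw [injective_iff_map_eq_zero]
    intro p hp
    by_contra h0
    have h1 := hp
    rw [(IsAlgClosed.splits p).eq_prod_roots, map_mul] at h1
    rcases mul_eq_zero.1 h1 with h2 | h2
    · simp [φ, h0] at h2
    · rw [map_multiset_prod, Multiset.map_map, Multiset.prod_eq_zero_iff, Multiset.mem_map] at h2
      obtain ⟨c, -, hc⟩ := h2
      exact hf c (sub_eq_zero.1 (by simpa [φ] using hc))
  letI : Algebra (Polynomial k) D := φ.toRingHom.toAlgebra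
  haveI : IsScalarTower k (Polynomial k) D := IsScalarTower.of_algebraMap_eq fun c => (φ.commutes c).symm
  haveI : FaithfulSMul (Polynomial k) D := (faithfulSMul_iff_algebraMap_injective _ _).2 hinj
  haveI : Module.IsTorsionFree (Polynomial k) D := inferInstance
  haveI : Module.Flat (Polynomial k) D := inferInstance
  haveI : Algebra.FiniteType (Polynomial k) D := Algebra.FiniteType.of_restrictScalars_finiteType k _ D
  haveI : Algebra.FinitePresentation (Polynomial k) D := Algebra.FinitePresentation.of_finiteType.1 ‹_›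
  have hopen := PrimeSpectrum.isOpenMap_comap_of_hasGoingDown_of_finitePresentation
    (R := Polynomial k) (S := D)
  obtain ⟨_, ⟨_, ⟨h, rfl⟩, rfl⟩, hne, hsub⟩ :
      ∃ U, (∃ V ∈ Set.range (fun r : Polynomial k => PrimeSpectrum.basicOpen r),
        (V : Set (PrimeSpectrum (Polynomial k))) = U) ∧ U.Nonempty ∧
        U ⊆ Set.range (PrimeSpectrum.comap (algebraMap (Polynomial k) D)) := by
    have ho : IsOpen (Set.range (PrimeSpectrum.comap (algebraMap (Polynomial k) D))) :=
      hopen.isOpen_range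
    obtain ⟨p, hp⟩ := Set.range_nonempty (PrimeSpectrum.comap (algebraMap (Polynomial k) D))
    obtain ⟨_, ⟨r, rfl⟩, hpr, hr⟩ :=
      PrimeSpectrum.isTopologicalBasis_basic_opens.exists_subset_of_mem_open hp ho
    exact ⟨_, ⟨_, ⟨r, rfl⟩, rfl⟩, ⟨p, hpr⟩, hr⟩
  have hh : h ≠ 0 := by
    rintro rfl
    simp at hne
  obtain ⟨m, hm⟩ : ∃ m : ℕ, (m : k) ∉ h.roots.toFinset ∧ N < m := by
    have : ((fun m : ℕ => (m : k)) '' Set.Ioi N).Infinite :=
      (Set.Ioi_infinite N).image (Nat.cast_injective.injOn)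
    obtain ⟨_, ⟨m, hm, rfl⟩, hm'⟩ := this.exists_notMem_finset h.roots.toFinset
    exact ⟨m, hm', hm⟩
  let P : Ideal (Polynomial k) := RingHom.ker (Polynomial.evalRingHom (m : k))
  haveI : P.IsPrime := RingHom.ker_isPrime _
  have hP : (⟨P, inferInstance⟩ : PrimeSpectrum (Polynomial k)) ∈ PrimeSpectrum.basicOpen h := by
    intro hc
    have : h.eval (m : k) = 0 := hc
    exact hm.1 (Multiset.mem_toFinset.2 ((Polynomial.mem_roots hh).2 this))
  obtain ⟨Q, hQ⟩ := hsub hP
  obtain ⟨M, hM, hQM⟩ := Ideal.exists_le_maximal Q.asIdeal Q.2.ne_top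
  obtain ⟨x, hx⟩ := FBase64.exists_algHom_ker_eq k D M
  refine ⟨m, hm.2, x, ?_⟩
  have hmem : (Polynomial.X - Polynomial.C (m : k)) ∈ P := by simp [P, RingHom.mem_ker]
  have hmem' : φ (Polynomial.X - Polynomial.C (m : k)) ∈ Q.asIdeal := by
    have := congrArg PrimeSpectrum.asIdeal hQ
    exact this.ge hmem
  have := (hx _).2 (hQM hmem')
  simpa [φ, sub_eq_zero] using this

end Value

variable {A : Type u} [CommRing A] [HopfAlgebra k A]

/-- values of regular functions on the points -/
def evalPts : A →ₐ[k] (Pt k A → k) := AlgHom.pi fun g : Pt k A => g.ofConv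

variable (k A) in
/-- the regular functions on the points -/
def Reg : Subalgebra k (Pt k A → k) := (evalPts (k := k) (A := A)).range

theorem mem_reg {F : Pt k A → k} : F ∈ Reg k A ↔ ∃ a : A, ∀ g : Pt k A, g.ofConv a = F g := by
  constructor
  · rintro ⟨a, rfl⟩; exact ⟨a, fun g => rfl⟩
  · rintro ⟨a, ha⟩; exact ⟨a, funext ha⟩

theorem reg_inv {F : Pt k A → k} (hF : F ∈ Reg k A) : (fun g => F g⁻¹) ∈ Reg k A := by
  obtain ⟨a, ha⟩ := mem_reg.1 hF
  refine mem_reg.2 ⟨((gen k A)⁻¹).ofConv a, fun g => ?_⟩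
  rw [push_apply', map_inv, push_gen, ha]

theorem reg_mul_left {F : Pt k A → k} (hF : F ∈ Reg k A) (x : Pt k A) :
    (fun g => F (x * g)) ∈ Reg k A := by
  obtain ⟨a, ha⟩ := mem_reg.1 hF
  refine mem_reg.2 ⟨(const x * gen k A).ofConv a, fun g => ?_⟩
  rw [push_apply', map_mul, push_const, push_gen, ha]

theorem reg_const (c : k) : (fun _ : Pt k A => c) ∈ Reg k A :=
  (Reg k A).algebraMap_mem c

theorem reg_sum {ι : Type*} (s : Finset ι) {F : ι → Pt k A → k} (h : ∀ i ∈ s, F i ∈ Reg k A) :
    (fun g => ∑ i ∈ s, F i g) ∈ Reg k A := by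
  have := Subalgebra.sum_mem (Reg k A) h
  convert this using 1
  ext g; simp

theorem reg_mul {F G : Pt k A → k} (hF : F ∈ Reg k A) (hG : G ∈ Reg k A) :
    (fun g => F g * G g) ∈ Reg k A := (Reg k A).mul_mem hF hG

section Kernel

variable {ι : Type} [Fintype ι] [DecidableEq ι]

/-- From a representation with an eigenline whose stabiliser is a normal subset, a representation
whose kernel is that subset. -/
theorem exists_rep_kernel (Z : Set (Pt k A)) (hconj : ∀ g, ∀ z ∈ Z, g * z * g⁻¹ ∈ Z)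
    (T : Pt k A →* Matrix ι ι k) (hT : ∀ i j, (fun g => T g i j) ∈ Reg k A)
    (v : ι → k) (hv : v ≠ 0) (χ : Pt k A → k) (hZ : ∀ z ∈ Z, (T z).mulVec v = χ z • v)
    (hst : ∀ g, (∃ c : k, (T g).mulVec v = c • v) → g ∈ Z) :
    ∃ (S : Type u) (_ : Fintype S) (_ : DecidableEq S) (ψ : Pt k A →* Matrix S S k),
      (∀ i j, (fun g => ψ g i j) ∈ Reg k A) ∧ (∀ g, ψ g = 1 ↔ g ∈ Z) := by
  classical
  let E : Submodule k (ι → k) := Submodule.span k (Set.range fun g => (T g).mulVec v)
  have hEmem : ∀ g, (T g).mulVec v ∈ E := fun g => Submodule.subset_span ⟨g, rfl⟩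
  have hEst : ∀ g, ∀ w ∈ E, (T g).mulVec w ∈ E := fun g => by
    have : E ≤ E.comap (Matrix.toLin' (T g)) := by
      rw [Submodule.span_le]
      rintro _ ⟨h, rfl⟩
      show (Matrix.toLin' (T g)) ((T h).mulVec v) ∈ E
      rw [Matrix.toLin'_apply, Matrix.mulVec_mulVec, ← map_mul]
      exact hEmem _
    intro w hw
    have := this hw
    simpa using this
  let v₀ : E := ⟨v, by simpa using hEmem 1⟩
  let t : Set E := Set.range fun g => (⟨(T g).mulVec v, hEmem g⟩ : E)
  have hs : LinearIndepOn k id ({v₀} : Set E) := by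
    refine LinearIndepOn.singleton ?_
    simpa [v₀, Subtype.ext_iff] using hv
  have hst' : ({v₀} : Set E) ⊆ t := Set.singleton_subset_iff.2 ⟨1, by simp [v₀]⟩
  have ht : ⊤ ≤ Submodule.span k t := by
    rintro ⟨w, hw⟩ -
    obtain ⟨x, hx, hxw⟩ : w ∈ (Submodule.span k t).map E.subtype := by
      rw [Submodule.map_span, ← Set.range_comp]
      exact hw
    rwa [show x = ⟨w, hw⟩ from Subtype.ext hxw] at hx
  let b := Module.Basis.extendLe hs hst' ht
  let J := (hs.extend hst' : Set E)
  haveI : Fintype J := FiniteDimensional.fintypeBasisIndex b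
  let o : J := ⟨v₀, hs.subset_extend hst' rfl⟩
  have hbo : (b o : ι → k) = v := by simp [b, o, v₀]
  have hbt : ∀ a, ∃ h, (b a : ι → k) = (T h).mulVec v := fun a => by
    obtain ⟨h, hh⟩ := hs.extend_subset hst' a.2
    exact ⟨h, by rw [show b a = a.1 by simp [b]]; exact (congrArg Subtype.val hh).symm⟩
  choose rep hrep using hbt
  let Tg : Pt k A →* Module.End k E :=
    { toFun := fun g => (Matrix.toLin' (T g)).restrict fun w hw => by simpa using hEst g w hw
      map_one' := by ext w : 2; simp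
      map_mul' := fun g h => by ext w : 2; simp [Matrix.mulVec_mulVec] }
  let ρ : Pt k A →* Matrix J J k := (LinearMap.toMatrixAlgEquiv b).toAlgHom.toRingHom.toMonoidHom.comp Tg
  have hρ_apply : ∀ g a c, ρ g a c = b.repr (Tg g (b c)) a := fun g a c =>
    LinearMap.toMatrixAlgEquiv_apply b _ a c
  have hρreg : ∀ a c, (fun g => ρ g a c) ∈ Reg k A := by
    intro a c
    obtain ⟨φ, hφ⟩ := LinearMap.exists_extend (b.coord a)
    have : (fun g => ρ g a c) =
        fun g => ∑ i, ∑ j, φ (Pi.single i 1) * (T g i j * (b c : ι → k) j) := by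
      funext g
      rw [hρ_apply]
      have h1 : b.repr (Tg g (b c)) a = φ ((T g).mulVec (b c : ι → k)) :=
        (LinearMap.congr_fun hφ (Tg g (b c))).symm
      rw [h1]
      conv_lhs => rw [pi_eq_sum_univ' ((T g).mulVec (b c : ι → k))]
      simp only [map_sum, map_smul, smul_eq_mul, Matrix.mulVec, dotProduct, Finset.sum_mul]
      refine Finset.sum_congr rfl fun i _ => Finset.sum_congr rfl fun j _ => ?_
      ring
    rw [this]
    exact reg_sum _ fun i _ => reg_sum _ fun j _ => reg_mul (reg_const _)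
      (reg_mul (hT i j) (reg_const _))
  -- the eigen characters
  let η : J → Pt k A → k := fun a z => χ ((rep a)⁻¹ * z * rep a)
  have hdiag : ∀ z ∈ Z, ρ z = Matrix.diagonal fun a => η a z := by
    intro z hz
    have key : ∀ c, Tg z (b c) = η c z • b c := fun c => by
      apply Subtype.ext
      show (Matrix.toLin' (T z)) (b c : ι → k) = η c z • (b c : ι → k)
      rw [Matrix.toLin'_apply, hrep, Matrix.mulVec_mulVec, ← map_mul,
        show z * rep c = rep c * ((rep c)⁻¹ * z * rep c) by group, map_mul, ← Matrix.mulVec_mulVec,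
        hZ _ (by simpa using hconj (rep c)⁻¹ z hz), Matrix.mulVec_smul]
    ext a c
    rw [hρ_apply, key, map_smul, b.repr_self, Finsupp.smul_single, smul_eq_mul, mul_one,
      Finsupp.single_apply, Matrix.diagonal_apply]
    split_ifs with h1 h2 h3
    · rw [h2]
    · exact absurd h1.symm h2
    · exact absurd h3.symm h1
    · rfl
  have hrel : ∀ g, ∀ z ∈ Z, ∀ a c, ρ g a c ≠ 0 → η a z = η c (g⁻¹ * z * g) := by
    intro g z hz a c h0
    have hz' : g⁻¹ * z * g ∈ Z := by simpa using hconj g⁻¹ z hz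
    have := congrFun (congrFun (congrArg ρ (show z * g = g * (g⁻¹ * z * g) by group)) a) c
    rw [map_mul, map_mul, hdiag z hz, hdiag _ hz', Matrix.diagonal_mul, Matrix.mul_diagonal,
      mul_comm] at this
    exact mul_left_cancel₀ h0 this
  -- the pairs with equal characters
  let inS : J → J → Prop := fun a c => ∀ z ∈ Z, η a z = η c z
  have hiff : ∀ g a c a' c', ρ g a a' * ρ g⁻¹ c' c ≠ 0 → (inS a c ↔ inS a' c') := by
    intro g a c a' c' h0
    rw [mul_ne_zero_iff] at h0
    constructor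
    · intro h z hz
      have hw : g * z * g⁻¹ ∈ Z := hconj g z hz
      have e1 := hrel g _ hw a a' h0.1
      have e2 := hrel g⁻¹ z hz c' c h0.2
      rw [show g⁻¹ * (g * z * g⁻¹) * g = z by group] at e1
      rw [inv_inv] at e2
      rw [← e1, e2]
      exact h _ hw
    · intro h z hz
      have hw : g⁻¹ * z * g ∈ Z := by simpa using hconj g⁻¹ z hz
      have e1 := hrel g z hz a a' h0.1
      have e2 := hrel g⁻¹ _ hw c' c h0.2
      rw [show (g⁻¹)⁻¹ * (g⁻¹ * z * g) * g⁻¹ = z by group] at e2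
      rw [e1, ← e2]
      exact h _ hw
  let S := {p : J × J // inS p.1 p.2}
  let ψ₀ : Pt k A → Matrix S S k := fun g => Matrix.of fun p q => ρ g p.1.1 q.1.1 * ρ g⁻¹ q.1.2 p.1.2
  have hmul : ∀ g h, ψ₀ (g * h) = ψ₀ g * ψ₀ h := by
    intro g h
    ext p q
    simp only [ψ₀, Matrix.of_apply, Matrix.mul_apply, _root_.mul_inv_rev, map_mul, Finset.sum_mul_sum]
    rw [← Fintype.sum_prod_type']
    have hsub : ∀ r : J × J, ρ g p.1.1 r.1 * ρ h r.1 q.1.1 * (ρ h⁻¹ q.1.2 r.2 * ρ g⁻¹ r.2 p.1.2) ≠ 0 →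
        inS r.1 r.2 := by
      intro r hr
      rw [mul_ne_zero_iff, mul_ne_zero_iff, mul_ne_zero_iff] at hr
      exact (hiff g p.1.1 p.1.2 r.1 r.2 (mul_ne_zero hr.1.1 hr.2.2)).1 p.2
    rw [← Finset.sum_filter_of_ne (p := fun r : J × J => inS r.1 r.2) fun r _ => hsub r,
      ← Finset.sum_subtype_eq_sum_filter, Finset.subtype_univ]
    exact Finset.sum_congr rfl fun r _ => by ring
  have hψZ : ∀ z ∈ Z, ψ₀ z = 1 := by
    intro z hz
    have hinv : ρ z * ρ z⁻¹ = 1 := by rw [← map_mul, mul_inv_cancel, map_one]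
    ext p q
    simp only [ψ₀, Matrix.of_apply, hdiag z hz, Matrix.diagonal_apply, Matrix.one_apply]
    have hd : ∀ a c, η a z * ρ z⁻¹ a c = if a = c then 1 else 0 := fun a c => by
      have := congrFun (congrFun hinv a) c
      rwa [hdiag z hz, Matrix.diagonal_mul, Matrix.one_apply] at this
    by_cases h1 : p.1.1 = q.1.1
    · rw [if_pos h1, p.2 z hz]
      by_cases h2 : p.1.2 = q.1.2
      · rw [if_pos (Subtype.ext (Prod.ext h1 h2)), ← h2]
        simpa using hd p.1.2 p.1.2
      · rw [if_neg fun h => h2 (by rw [h])]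
        have hne : η q.1.2 z ≠ 0 := fun h0 => by simpa [h0] using hd q.1.2 q.1.2
        have := hd q.1.2 p.1.2
        rw [if_neg (Ne.symm h2)] at this
        rw [(mul_eq_zero.1 this).resolve_left hne, mul_zero]
    · rw [if_neg h1, zero_mul, if_neg fun h => h1 (by rw [h])]
  have h1 : ψ₀ 1 = 1 := by
    ext p q
    simp only [ψ₀, Matrix.of_apply, inv_one, map_one, Matrix.one_apply]
    by_cases h : p = q
    · simp [h]
    · rw [if_neg h]
      by_cases h2 : p.1.1 = q.1.1
      · rw [if_neg (fun h3 : q.1.2 = p.1.2 => h (Subtype.ext (Prod.ext h2 h3.symm))), mul_zero]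
      · rw [if_neg h2, zero_mul]
  let ψ : Pt k A →* Matrix S S k := ⟨⟨ψ₀, h1⟩, hmul⟩
  refine ⟨S, inferInstance, inferInstance, ψ, fun p q => ?_, fun g => ⟨fun hg => ?_, fun hg => hψZ g hg⟩⟩
  · exact reg_mul (hρreg _ _) (reg_inv (hρreg _ _))
  · let oo : S := ⟨(o, o), fun z _ => rfl⟩
    have h00 : ρ g o o * ρ g⁻¹ o o = 1 := by
      have := congrFun (congrFun hg oo) oo
      simpa [ψ, ψ₀, oo] using this
    have hcol : ∀ a, a ≠ o → ρ g a o = 0 := by
      intro a ha
      by_contra h0
      have hne : ρ g a o * ρ g⁻¹ o o ≠ 0 := mul_ne_zero h0 (right_ne_zero_of_mul_eq_one h00)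
      have hmem : inS a o := (hiff g a o o o hne).2 fun z _ => rfl
      have := congrFun (congrFun hg (⟨(a, o), hmem⟩ : S)) oo
      rw [Matrix.one_apply_ne (fun h => ha (congrArg (fun r : S => r.1.1) h))] at this
      exact hne this
    refine hst g ⟨ρ g o o, ?_⟩
    have : Tg g (b o) = ρ g o o • b o := by
      conv_lhs => rw [← b.sum_repr (Tg g (b o))]
      rw [Finset.sum_eq_single o]
      · rw [hρ_apply]
      · intro a _ ha
        rw [← hρ_apply, hcol a ha, zero_smul]
      · simp
    have := congrArg Subtype.val this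
    rw [Submodule.coe_smul, hbo] at this
    rw [← this]
    show (T g).mulVec v = (Matrix.toLin' (T g)) (b o : ι → k)
    rw [hbo, Matrix.toLin'_apply]

end Kernel

variable [IsAlgClosed k] [Algebra.FiniteType k A]

/-- A representation whose kernel is the given normal irreducible subgroup. -/
theorem exists_rep (p : Ideal A) [p.IsPrime] (h1 : (1 : Pt k A) ∈ (vset p : Set (Pt k A)))
    (hmul : ∀ x ∈ (vset p : Set (Pt k A)), ∀ y ∈ (vset p : Set (Pt k A)), x * y ∈ vset p)
    (hconj : ∀ g : Pt k A, ∀ x ∈ (vset p : Set (Pt k A)), g * x * g⁻¹ ∈ vset p) :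
    ∃ (S : Type u) (_ : Fintype S) (_ : DecidableEq S) (ψ : Pt k A →* Matrix S S k),
      (∀ i j, (fun g => ψ g i j) ∈ Reg k A) ∧ (∀ g, ψ g = 1 ↔ g ∈ (vset p : Set (Pt k A))) := by
  classical
  haveI : IsNoetherianRing A := Algebra.FiniteType.isNoetherianRing k A
  obtain ⟨s, hs⟩ := (IsNoetherian.noetherian p : p.FG)
  obtain ⟨W, hfin, hle, hW⟩ := exists_finite_subcomod_le (k := k) (A := A)
    (Submodule.span k (s : Set A))
  letI := ComodSub.Comod.restr (HopfRep.Comod.regular k A) W hW
  have hh : Hoch.IsComodHom A W.subtype :=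
    ComodSub.isComodHom_subtype (HopfRep.Comod.regular k A) W hW
  have key : ∀ (g : Pt k A) (w : W), (actHom k A W g w : A) = actHom k A A g (w : A) := fun g w =>
    IsComodHom.dact hh g.ofConv.toLinearMap w
  have hev : ∀ (x g : Pt k A) (a : A), x.ofConv (actHom k A A g a) = (x * g).ofConv a := by
    intro x g a
    rw [← counit_act (k := k) x.ofConv, ← counit_act (k := k) (x * g).ofConv a]
    show _ = CoalgebraStruct.counit (R := k) (actHom k A A (x * g) a)
    rw [map_mul]
    rfl
  let L : Submodule k W := (p.restrictScalars k).comap W.subtype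
  obtain ⟨d, e, b, hb⟩ := Mat.exists_adapted_basis L
  let c := Mat.mc (A := A) b
  have hc : Mat.IsRep (k := k) c := Mat.isRep_mc b
  have hent : ∀ (g : Pt k A) i j, g.ofConv (c i j) = b.repr (actHom k A W g (b j)) i := fun g i j =>
    apply_cf g (b.coord i) (b j)
  have hblock : ∀ g : Pt k A,
      (∀ (i : Fin e) (j : Fin d), g.ofConv (c (Sum.inr i) (Sum.inl j)) = 0) ↔
        g ∈ (vset p : Set (Pt k A)) := by
    intro g
    constructor
    · intro hg
      have hLst : ∀ w ∈ L, actHom k A W g w ∈ L := by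
        have : L ≤ L.comap (actHom k A W g) := by
          conv_lhs => rw [hb]
          rw [Submodule.span_le]
          rintro _ ⟨j, rfl⟩
          show actHom k A W g (b (Sum.inl j)) ∈ L
          rw [← b.sum_repr (actHom k A W g (b (Sum.inl j)))]
          refine Submodule.sum_mem _ fun i _ => ?_
          rcases i with i | i
          · exact L.smul_mem _ (hb ▸ Submodule.subset_span ⟨i, rfl⟩)
          · rw [← hent, hg, zero_smul]; exact L.zero_mem
        exact this
      have hgen : ∀ a ∈ (s : Set A), g.ofConv a = 0 := by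
        intro a ha
        have hap : a ∈ p := hs ▸ Submodule.subset_span ha
        let w : W := ⟨a, hle (Submodule.subset_span ha)⟩
        have hm : (actHom k A W g w : A) ∈ p := hLst w hap
        rw [key] at hm
        have := h1 _ hm
        rwa [hev, one_mul] at this
      intro a ha
      rw [← hs] at ha
      have : Ideal.span (s : Set A) ≤ RingHom.ker g.ofConv := Ideal.span_le.2 hgen
      exact this ha
    · intro hg i j
      have hj : (b (Sum.inl j) : A) ∈ p := by
        have : b (Sum.inl j) ∈ L := hb ▸ Submodule.subset_span ⟨j, rfl⟩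
        exact this
      have hm : actHom k A W g (b (Sum.inl j)) ∈ L := by
        show (actHom k A W g (b (Sum.inl j)) : A) ∈ p
        rw [key]
        exact mem_of_forall_vset fun x hx => by rw [hev]; exact hmul x hx g hg _ hj
      rw [hent]
      have hz : L ≤ LinearMap.ker (b.coord (Sum.inr i)) := by
        rw [hb, Submodule.span_le]
        rintro _ ⟨l, rfl⟩
        simp
      exact hz hm
  let T : Pt k A →* Matrix (Fin d → Fin d ⊕ Fin e) (Fin d → Fin d ⊕ Fin e) k :=
    { toFun := fun g => Mat.ev g.ofConv (Mat.powFam c)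
      map_one' := Mat.ev_one (Mat.isRep_pow hc d)
      map_mul' := fun g h => Mat.ev_mul (Mat.isRep_pow hc d) g.ofConv h.ofConv }
  let v : (Fin d → Fin d ⊕ Fin e) → k := Mat.wedgeVec k d (Fin e)
  have hv : v ≠ 0 := fun h => one_ne_zero ((Mat.wedgeVec_inl (k := k)).symm.trans (congrFun h Sum.inl))
  have hav : (fun J => algebraMap k k (v J)) = v := rfl
  refine exists_rep_kernel (vset p) hconj T
    (fun i j => mem_reg.2 ⟨Mat.powFam c i j, fun g => rfl⟩) v hv
    (fun z => (Mat.ev z.ofConv c).toBlocks₁₁.det) (fun z hz => funext fun I => ?_)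
    (fun g ⟨a, ha⟩ => (hblock g).1 ?_)
  · exact Mat.forall_mulVec_wedgeVec_of_block z.ofConv ((hblock z).2 hz) I
  · have hI : ∀ I, (Mat.ev g.ofConv (Mat.powFam c) *ᵥ fun J => algebraMap k k (v J)) I =
        a * algebraMap k k (v I) := fun I => congrFun ha I
    exact Mat.block_of_forall_mulVec_wedgeVec g.ofConv
      (Mat.isUnit_of_eigen (Mat.isRep_pow hc d) g.ofConv hv hI) hI

variable [CharZero k]

/-- Two points in one irreducible closed set differ by an element of the core. -/
theorem inv_mul_mem {p : Ideal A} [p.IsPrime] (h1 : (1 : Pt k A) ∈ (vset p : Set (Pt k A)))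
    (hmul : ∀ x ∈ (vset p : Set (Pt k A)), ∀ y ∈ (vset p : Set (Pt k A)), x * y ∈ vset p)
    (hconj : ∀ g : Pt k A, ∀ x ∈ (vset p : Set (Pt k A)), g * x * g⁻¹ ∈ vset p)
    (htors : ∀ g : Pt k A, ∃ m : ℕ, 0 < m ∧ g ^ m ∈ (vset p : Set (Pt k A)))
    {q : Ideal A} [q.IsPrime] {x y : Pt k A} (hx : x ∈ (vset q : Set (Pt k A)))
    (hy : y ∈ (vset q : Set (Pt k A))) : x⁻¹ * y ∈ (vset p : Set (Pt k A)) := by
  classical
  obtain ⟨S, _, _, ψ, hreg, hker⟩ := exists_rep p h1 hmul hconj
  have hfin : ∀ g, ∃ m, 0 < m ∧ ψ g ^ m = 1 := fun g => by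
    obtain ⟨m, hm, hg⟩ := htors g
    exact ⟨m, hm, by rw [← map_pow]; exact (hker _).2 hg⟩
  obtain ⟨f, hf⟩ : ∃ f : A, ∀ g : Pt k A, g.ofConv f = (ψ (x⁻¹ * g)).trace := mem_reg.1 <|
    reg_mul_left (F := fun g => (ψ g).trace) (reg_sum _ fun i _ => hreg i i) x⁻¹
  haveI : Algebra.FiniteType k (A ⧸ q) :=
    Algebra.FiniteType.of_surjective (Ideal.Quotient.mkₐ k q) Ideal.Quotient.mk_surjective
  by_cases hc : ∃ c : k, Ideal.Quotient.mk q f = algebraMap k (A ⧸ q) c
  · obtain ⟨c, hc⟩ := hc
    have hval : ∀ g ∈ (vset q : Set (Pt k A)), g.ofConv f = c := fun g hg => by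
      have := congrArg (Ideal.Quotient.liftₐ q g.ofConv hg) hc
      rwa [AlgHom.commutes] at this
    have hc' : c = (Fintype.card S : k) := by
      rw [← hval x hx, hf, inv_mul_cancel, map_one, Matrix.trace_one]
    obtain ⟨m, hm, hpow⟩ := hfin (x⁻¹ * y)
    refine (hker _).1 (eq_one_of_pow_eq_one_of_trace hm hpow ?_)
    rw [← hf, hval y hy, hc']
  · push Not at hc
    obtain ⟨n, hn, z, hz⟩ := exists_large_value (k := k) (Ideal.Quotient.mk q f) hc (Fintype.card S)
    let g : Pt k A := toConv (z.comp (Ideal.Quotient.mkₐ k q))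
    obtain ⟨m, hm, hpow⟩ := hfin (x⁻¹ * g)
    exact absurd (show (ψ (x⁻¹ * g)).trace = (n : k) by rw [← hf]; exact hz)
      (trace_ne_natCast_of_pow_eq_one hm hpow hn)

/-- Finitely generated subgroups of points can be Zariski dense. -/
theorem exists_fg_dense : ∃ Φ : Subgroup (Pt k A), Φ.FG ∧
    ∀ a ∈ vI (Φ : Set (Pt k A)), IsNilpotent a := by
  classical
  haveI : IsNoetherianRing A := Algebra.FiniteType.isNoetherianRing k A
  obtain ⟨p, hp, h1, hmul, hconj, htors, Φ₀, hΦ₀, hsub⟩ := exists_core (k := k) (A := A)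
  let M := (⊥ : Ideal A).minimalPrimes
  haveI : Finite M := (Ideal.finite_minimalPrimes_of_isNoetherianRing A _).to_subtype
  have hex : ∀ q : M, ∃ x : Pt k A, x ∈ (vset (q : Ideal A) : Set (Pt k A)) := by
    intro q
    obtain ⟨N, hN, hqN⟩ := Ideal.exists_le_maximal (q : Ideal A) q.2.1.1.ne_top
    obtain ⟨z, hz⟩ := FBase64.exists_algHom_ker_eq k A N
    exact ⟨toConv z, fun a ha => (hz a).2 (hqN ha)⟩
  choose r hr using hex
  let Φ : Subgroup (Pt k A) := Φ₀ ⊔ Subgroup.closure (Set.range r)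
  refine ⟨Φ, hΦ₀.sup ⟨(Set.finite_range r).toFinset, by rw [Set.Finite.coe_toFinset]⟩, fun a ha => ?_⟩
  have hall : ∀ g : Pt k A, g.ofConv a = 0 := by
    intro g
    haveI : (RingHom.ker g.ofConv).IsPrime := RingHom.ker_isPrime _
    obtain ⟨q, hq, hqg⟩ := Ideal.exists_minimalPrimes_le
      (show (⊥ : Ideal A) ≤ RingHom.ker g.ofConv from bot_le)
    haveI : q.IsPrime := hq.1.1
    have hd := inv_mul_mem h1 hmul hconj htors (hr ⟨q, hq⟩) (fun a ha => hqg ha : g ∈ (vset q : Set (Pt k A)))
    have hm : r ⟨q, hq⟩ * ((r ⟨q, hq⟩)⁻¹ * g) ∈ vset (vI (Φ : Set (Pt k A))) := closure_mul Φ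
      (subset_closure _ ((le_sup_right : _ ≤ Φ) (Subgroup.subset_closure ⟨_, rfl⟩)))
      (vset_anti (vI_anti (SetLike.coe_subset_coe.2 le_sup_left)) (hsub hd))
    rw [mul_inv_cancel_left] at hm
    exact hm a ha
  have hnil : a ∈ nilradical A := by
    rw [nilradical, Ideal.radical_eq_sInf, Ideal.mem_sInf]
    rintro q ⟨-, hq⟩
    haveI := hq
    exact mem_of_forall_vset fun g _ => hall g
  exact hnil

end Groth.Agent.DenseFG4
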